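import Groth.Agent.CycLib.BundleSurj
import Groth.Agent.CycLib.FibreMult

/-!
# Generic points of integral fibres and of trivial affine bundles
-/

set_option autoImplicit false
set_option backward.isDefEq.respectTransparency false
set_option linter.style.haveILetI false
set_option linter.unusedSectionVars false

universe u

open CategoryTheory CategoryTheory.Limits AlgebraicGeometry TopologicalSpace

noncomputable section

namespace Groth.Agent.ClProdLib

open CycLib CycLib.AffBundle

variable {Z W : Scheme.{u}} (f : Z ⟶ W) [GeometricallyIntegral f]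

theorem isIntegral_fiber (w : W) : IsIntegral (f.fiber w) := by
  haveI : GeometricallyIntegral (f.fiberToSpecResidueField w) := MorphismProperty.pullback_snd _ _ inferInstance
  exact GeometricallyIntegral.isIntegral_of_subsingleton (f.fiberToSpecResidueField w)

/-- The generic point of the fibre over a point. -/
def fibGen (w : W) : Z :=
  haveI := isIntegral_fiber f w
  f.fiberι w (genericPoint ↥(f.fiber w))

theorem apply_fibGen (w : W) : f (fibGen f w) = w := by
  have : fibGen f w ∈ f ⁻¹' {w} := by rw [← Scheme.Hom.range_fiberι]; exact ⟨_, rfl⟩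
  exact this

theorem eq_fibGen {z : Z} (hz : MaxFib f z) : z = fibGen f (f z) := by
  haveI := isIntegral_fiber f (f z)
  obtain ⟨v, hv⟩ : z ∈ Set.range (f.fiberι (f z)) := by rw [Scheme.Hom.range_fiberι]; exact rfl
  refine (hz _ (apply_fibGen f _) ?_).symm
  have := (genericPoint_specializes v).map (f.fiberι (f z)).continuous
  rwa [hv] at this

theorem length_fibIdeal_eq_one {z : Z} (hz : MaxFib f z) :
    Module.length (Z.presheaf.stalk z) (Z.presheaf.stalk z ⧸ fibIdeal f z) = 1 := by
  rw [eq_fibGen f hz]
  haveI := isIntegral_fiber f (f z)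
  rw [fibGen, ← length_stalk_fiber]
  exact Module.length_eq_one_iff.2 (inferInstanceAs (IsSimpleModule (f.fiber (f z)).functionField (f.fiber (f z)).functionField))

/-- The shift of a trivial affine bundle. -/
theorem isShift_locTriv {A S : Scheme.{u}} (a : A ⟶ S) [LocallyOfFiniteType a] [IsLocallyNoetherian S] {δA : A → ℤ}
    {δS : S → ℤ} (hδ : Cyc.DeltaCompat a δA δS) {r : ℕ} (hf : LocTriv a r) : IsShift a δA δS r := by
  intro w hw
  obtain ⟨e⟩ := nonempty_fibre_iso hf (a w)
  haveI := isIntegral_poly e
  obtain ⟨-, -, -, h⟩ := poly_facts e (fibDelta_dim a hδ (a w))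
  obtain ⟨v, hv⟩ := mem_range_fiberι a (rfl : a w = a w)
  have h1 : a.fiberι (a w) (genericPoint ↥(a.fiber (a w))) = w := by
    refine hw _ ?_ ?_
    · have : a.fiberι (a w) (genericPoint ↥(a.fiber (a w))) ∈ a ⁻¹' {a w} := by
        rw [← Scheme.Hom.range_fiberι]; exact ⟨_, rfl⟩
      exact this
    · have := (genericPoint_specializes v).map (a.fiberι (a w)).continuous
      rwa [hv] at this
  have h2 := h.1
  simp only [fibDelta, h1] at h2
  omega

end Groth.Agent.ClProdLib
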