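import Groth.Agent.ChowFldLib.Closed
import Groth.Agent.CycLib.FlatShift
import Groth.Agent.GeomRedPtLib.Basic

/-!
# Cycles of codimension one on a product with an algebraically closed ground field
-/

set_option autoImplicit false
set_option backward.isDefEq.respectTransparency false
set_option linter.style.haveILetI false
set_option linter.unusedSectionVars false

universe u

open CategoryTheory CategoryTheory.Limits AlgebraicGeometry TopologicalSpace

noncomputable section

namespace Groth.Agent.ClProdLib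

open CycLib BivarLib ChowFldLib DimFormulaLib

variable {k : Type u} [Field k] {X Y P : Scheme.{u}} {fX : X ⟶ Spec (CommRingCat.of k)}
  {fY : Y ⟶ Spec (CommRingCat.of k)} [LocallyOfFiniteType fX] [LocallyOfFiniteType fY]
  {p₁ : P ⟶ X} {p₂ : P ⟶ Y} (sq : IsPullback p₁ p₂ fX fY)
  {δX : X → ℤ} {δY : Y → ℤ} {δP : P → ℤ} (hc₁ : Cyc.DeltaCompat p₁ δP δX) (hc₂ : Cyc.DeltaCompat p₂ δP δY)

include sq hc₁ hc₂ in
/-- Compatible dimension functions on a product come from a constant on the ground field. -/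
theorem exists_const [Nonempty Y] : ∃ c : ℤ, Cyc.DeltaCompat fX δX (fun _ => c) := by
  let y₀ : Y := Classical.arbitrary Y
  obtain ⟨σY, hσY⟩ := exists_delta fY (fun _ : Spec (CommRingCat.of k) => (0 : ℤ))
  obtain ⟨σX, hσX⟩ := exists_delta fX (fun _ : Spec (CommRingCat.of k) => (0 : ℤ))
  refine ⟨δY y₀ - σY y₀, fun x => ?_⟩
  obtain ⟨sx, hsx, ex⟩ := hσX x
  obtain ⟨sy, hsy, ey⟩ := hσY y₀
  refine ⟨sx, hsx, ?_⟩
  obtain ⟨z, hz₁, hz₂⟩ := Scheme.Pullback.exists_preimage_pullback (f := fX) (g := fY) x y₀ (Subsingleton.elim _ _)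
  let w : P := sq.isoPullback.inv z
  have hw₁ : p₁ w = x := by rw [← Scheme.Hom.comp_apply, sq.isoPullback_inv_fst, hz₁]
  have hw₂ : p₂ w = y₀ := by rw [← Scheme.Hom.comp_apply, sq.isoPullback_inv_snd, hz₂]
  obtain ⟨t₁, ht₁, e₁⟩ := hc₁ w
  obtain ⟨t₂, ht₂, e₂⟩ := hc₂ w
  have h := FlatDim.resTrdegAt_congr sq.w w
  rw [FlatDim.resTrdegAt_comp, FlatDim.resTrdegAt_comp, hw₁, hw₂, show resTrdegAt fX x = sx from hsx,
    show resTrdegAt fY y₀ = sy from hsy, show resTrdegAt p₁ w = t₁ from ht₁,
    show resTrdegAt p₂ w = t₂ from ht₂] at h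
  have h' : sx + t₁ = sy + t₂ := by exact_mod_cast h
  rw [hw₁] at e₁
  rw [hw₂] at e₂
  show δX x = δY y₀ - σY y₀ + (sx : ℤ)
  change σY y₀ = 0 + (sy : ℤ) at ey
  omega

include sq in
theorem flat_fst : Flat p₁ := MorphismProperty.of_isPullback sq.flip (flat_spec fY)

include sq in
theorem lft_fst : LocallyOfFiniteType p₁ := MorphismProperty.of_isPullback sq.flip (inferInstance : LocallyOfFiniteType fY)

section Irred

variable {Z W : Scheme.{u}} [IrreducibleSpace Z] [IrreducibleSpace W] (f : Z ⟶ W) [Flat f]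

/-- A flat map of irreducible schemes preserves generic points. -/
theorem map_genericPoint : f (genericPoint Z) = genericPoint W := by
  obtain ⟨w, hw, hwe⟩ := Flat.generalizingMap (f := f) (genericPoint_specializes (f (genericPoint Z)))
  rw [← hwe, (hw.antisymm (genericPoint_specializes w)).eq]

/-- The shift of a flat map of irreducible schemes is read at the generic points. -/
theorem isShift_generic [LocallyOfFiniteType f] {δZ : Z → ℤ} {δW : W → ℤ} (hW : Cyc.IsSetup W δW)
    (hf : Cyc.DeltaCompat f δZ δW) : IsShift f δZ δW (δZ (genericPoint Z) - δW (genericPoint W)) := by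
  obtain ⟨h0, hs⟩ := isShift_of_irreducible f hW hf
  rwa [Int.toNat_of_nonneg h0] at hs

end Irred

include sq hc₁ hc₂ in
/-- Injectivity of the first pullback modulo the second. -/
theorem inj_left [IsAlgClosed k] [AlgebraicGeometry.IsIntegral X] [AlgebraicGeometry.IsIntegral Y]
    [AlgebraicGeometry.IsIntegral P] [QuasiCompact fX]
    (hsX : Cyc.IsSetup X δX) (hsP : Cyc.IsSetup P δP)
    {α : AlgebraicCycle X ℤ} (hα : α ∈ Cyc.Zk X δX (δX (genericPoint X) - 1))
    {β : AlgebraicCycle Y ℤ} (hβ : β ∈ Cyc.Zk Y δY (δY (genericPoint Y) - 1)) (γ : AlgebraicCycle P ℤ) {r : ℤ}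
    (hγ : ∀ z, γ z = Cyc.pullFun p₁ δP δX (δP (genericPoint P) - δX (genericPoint X)) α z +
      Cyc.pullFun p₂ δP δY r β z)
    (h0 : Cyc.RatEquivZero δP (δP (genericPoint P) - 1) γ) :
    Cyc.RatEquivZero δX (δX (genericPoint X) - 1) α := by
  obtain ⟨c, hc⟩ := exists_const sq hc₁ hc₂
  haveI := flat_fst sq
  haveI := lft_fst sq
  haveI := hsP.1
  haveI := hsX.1
  let K : Type u := Y.functionField
  let j : Spec (CommRingCat.of K) ⟶ Y := Y.fromSpecStalk (genericPoint Y)
  haveI : IsPreimmersion j := inferInstanceAs (IsPreimmersion (Y.fromSpecStalk (genericPoint Y)))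
  haveI : Flat j := GeomRedPtLib.flat_fromSpecStalk' (genericPoint Y)
  have hj : ∀ s, j s = genericPoint Y := fun s => by
    have h1 : j s ∈ Set.range (Y.fromSpecStalk (genericPoint Y)) := ⟨s, rfl⟩
    rw [Scheme.range_fromSpecStalk] at h1
    exact ((show j s ⤳ genericPoint Y from h1).antisymm (genericPoint_specializes _)).eq
  let ι : k →+* K := (Spec.preimage (j ≫ fY)).hom
  have hι : Spec.map (CommRingCat.ofHom ι) = j ≫ fY := Spec.map_preimage _
  let Q := pullback p₂ j
  let g : Q ⟶ P := pullback.fst p₂ j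
  let pQ : Q ⟶ Spec (CommRingCat.of K) := pullback.snd p₂ j
  haveI : IsPreimmersion g := MorphismProperty.pullback_fst _ _ inferInstance
  haveI : Flat g := MorphismProperty.pullback_fst _ _ inferInstance
  have sqQ : IsPullback (g ≫ p₁) pQ fX (Spec.map (CommRingCat.ofHom ι)) :=
    hι ▸ (IsPullback.of_hasPullback p₂ j).paste_horiz sq
  let δ₀ : X → ℤ := fun x => δX x - c
  let δQ : Q → ℤ := fun q => δP (g q) - δY (genericPoint Y)
  have h₀ : Cyc.DeltaCompat fX δ₀ (fun _ => 0) := fun x => by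
    obtain ⟨m, hm, e⟩ := hc x
    exact ⟨m, hm, by show δX x - c = 0 + (m : ℤ); change δX x = c + (m : ℤ) at e; omega⟩
  have hQ : Cyc.DeltaCompat pQ δQ (fun _ => 0) := fun q => by
    obtain ⟨m, hm, e⟩ := deltaCompat_closed_square hc₂ (i := j) (i' := g) (pD := pQ) pullback.condition q
    exact ⟨m, hm, by show δP (g q) - δY (genericPoint Y) = 0 + (m : ℤ); change δP (g q) = δY (j (pQ q)) + (m : ℤ) at e; rw [hj] at e; omega⟩
  have sh := isShift_fieldExt sqQ h₀ hQ
  have hsQ := setup_Y sqQ hQ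
  haveI := hsQ.1
  set d := δP (genericPoint P) - δX (genericPoint X)
  have hsh₁ : IsShift p₁ δP δX d := isShift_generic p₁ hsX hc₁
  have hd : d = δY (genericPoint Y) - c := by
    haveI : Flat p₂ := MorphismProperty.of_isPullback sq (flat_spec fX)
    obtain ⟨q, hq, -⟩ := Scheme.Pullback.exists_preimage_pullback (f := p₂) (g := j) (genericPoint P)
      (IsLocalRing.closedPoint _) ((map_genericPoint p₂).trans (hj _).symm)
    have hmax : MaxFib (g ≫ p₁) q := fun w _ hw => by
      have hgw := hw.map g.continuous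
      rw [show g q = genericPoint P from hq] at hgw
      exact g.isEmbedding.injective ((hgw.antisymm (genericPoint_specializes _)).eq.trans hq.symm)
    have h1 := sh q hmax
    rw [Scheme.Hom.comp_apply, show g q = genericPoint P from hq, map_genericPoint p₁] at h1
    change δP (g q) - δY (genericPoint Y) = δX (genericPoint X) - c + 0 at h1
    rw [show g q = genericPoint P from hq] at h1
    omega
  have shg : IsShift g δQ δP (-δY (genericPoint Y)) := fun q _ => by show δP (g q) - _ = _; ring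
  let γQ := pullHom shg hsQ.2.2 γ
  have h1 : Cyc.RatEquivZero δQ (δX (genericPoint X) - 1 - c) γQ := by
    have := ratEquivZero_pull shg hsQ.2.2 hsP.2.2 h0 γQ rfl
    rwa [show δP (genericPoint P) - 1 + -δY (genericPoint Y) = δX (genericPoint X) - 1 - c by omega] at this
  have hγQ : ⇑γQ = Cyc.pullFun (g ≫ p₁) δQ δ₀ 0 ⇑α := funext fun q => by
    have hcomp := congrFun (pullFun_comp hsh₁ shg hsP.2.2 hsQ.2.2 ⇑α) q
    show Cyc.pullFun g δQ δP _ ⇑γ q = _
    have hβ0 : γ (g q) = Cyc.pullFun p₁ δP δX d (⇑α) (g q) := by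
      rw [hγ, pullFun_apply (p := p₂)]
      have h2 : p₂ (g q) = genericPoint Y := by
        rw [← Scheme.Hom.comp_apply, pullback.condition, Scheme.Hom.comp_apply, hj]
      rw [h2, hβ (genericPoint Y) (by omega), zero_mul, ite_self, add_zero]
    rw [pullFun_apply (p := g), hβ0]
    rw [pullFun_apply (p := g)] at hcomp
    rw [← hcomp, pullFun_apply, pullFun_apply]
    refine if_congr ?_ rfl rfl
    show δP (g q) - _ = δX _ + _ ↔ δP (g q) - _ = δX _ - c + 0
    omega
  have hα₀ : α ∈ Cyc.Zk X δ₀ (δX (genericPoint X) - 1 - c) := fun x hx => hα x fun e => hx (by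
    show δX x - c = _
    omega)
  letI := ι.toAlgebra
  have h2 : Cyc.RatEquivZero δ₀ (δX (genericPoint X) - 1 - c) α :=
    ChowFldLib.injOne k K X Q fX pQ (g ≫ p₁) sqQ δ₀ δQ h₀ hQ _ α hα₀ γQ hγQ h1
  have h3 := ratEquivZero_shift (δ' := δX) (c := c) (fun x => by show δX x = δX x - c + c; ring) h2
  rwa [sub_add_cancel] at h3

end Groth.Agent.ClProdLib
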