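import Groth.Agent.ClProdLib.Basic
import Groth.Agent.ClProdLib.Fibre
import Groth.Agent.S1863
import Groth.Agent.VBundLib.AffInj

/-!
# Surjectivity of the pullbacks on a product with a rational variety
-/

set_option autoImplicit false
set_option backward.isDefEq.respectTransparency false
set_option linter.style.haveILetI false
set_option linter.unusedSectionVars false

universe u

open CategoryTheory CategoryTheory.Limits AlgebraicGeometry TopologicalSpace

noncomputable section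

namespace Groth.Agent.ClProdLib

open CycLib BivarLib ChowFldLib

theorem finite_support {X : Scheme.{u}} [CompactSpace X] (α : AlgebraicCycle X ℤ) : (Function.support ⇑α).Finite := by
  simpa using α.locallyFiniteSupport.finite_inter_support_of_isCompact isCompact_univ

/-- A cycle with finitely many nonzero coefficients. -/
def cycleOfFinite {X : Scheme.{u}} (f : X → ℤ) (hf : (Function.support f).Finite) : AlgebraicCycle X ℤ where
  toFun := f
  supportWithinDomain' := Set.subset_univ _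
  supportLocallyFiniteWithinDomain' _ _ := ⟨Set.univ, Filter.univ_mem, hf.subset Set.inter_subset_right⟩

variable {k : Type u} [Field k] {X Y P : Scheme.{u}} [AlgebraicGeometry.IsIntegral X] [AlgebraicGeometry.IsIntegral Y]
  [AlgebraicGeometry.IsIntegral P] {fX : X ⟶ Spec (CommRingCat.of k)} {fY : Y ⟶ Spec (CommRingCat.of k)}
  [LocallyOfFiniteType fX] [LocallyOfFiniteType fY] [QuasiCompact fX] [QuasiCompact fY] [GeometricallyIntegral fY]
  {p₁ : P ⟶ X} {p₂ : P ⟶ Y} (sq : IsPullback p₁ p₂ fX fY)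
  {δX : X → ℤ} {δY : Y → ℤ} {δP : P → ℤ} (hc₁ : Cyc.DeltaCompat p₁ δP δX) (hc₂ : Cyc.DeltaCompat p₂ δP δY)
  (hsX : Cyc.IsSetup X δX) (hsY : Cyc.IsSetup Y δY) (hsP : Cyc.IsSetup P δP)
  {n : ℕ} {U : X.Opens} {V : (𝔸(ULift.{u} (Fin n); Spec (CommRingCat.of k))).Opens}
  (e : (U : Scheme.{u}) ≅ (V : Scheme.{u})) (hU : (U : Set ↥X).Nonempty)
  (he : e.hom ≫ V.ι ≫ (𝔸(ULift.{u} (Fin n); Spec (CommRingCat.of k)) ↘ Spec (CommRingCat.of k)) = U.ι ≫ fX)

include sq hc₂ hsY hsP he hU in
/-- Over an open piece of affine space every cycle of codimension one comes from the second factor. -/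
theorem exists_second (γ : AlgebraicCycle P ℤ) (hγ : γ ∈ Cyc.Zk P δP (δP (genericPoint P) - 1)) :
    ∃ β ∈ Cyc.Zk Y δY (δY (genericPoint Y) - 1), ∃ βP : AlgebraicCycle P ℤ,
      ⇑βP = Cyc.pullFun p₂ δP δY (δP (genericPoint P) - δY (genericPoint Y)) ⇑β ∧
      ∃ γ₀ : AlgebraicCycle P ℤ, γ₀ ∈ Cyc.Zk P δP (δP (genericPoint P) - 1) ∧
        (∀ z, p₁ z ∈ U → γ₀ z = 0) ∧ Cyc.RatEquiv δP (δP (genericPoint P) - 1) γ (βP + γ₀) := by
  classical
  let I : Type u := ULift.{u} (Fin n)
  haveI := flat_fst sq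
  haveI := lft_fst sq
  haveI : Flat p₂ := MorphismProperty.of_isPullback sq (flat_spec fX)
  haveI : LocallyOfFiniteType p₂ := MorphismProperty.of_isPullback sq (inferInstance : LocallyOfFiniteType fX)
  haveI : CompactSpace X := QuasiCompact.compactSpace_of_compactSpace fX
  haveI : QuasiCompact p₁ := MorphismProperty.of_isPullback sq.flip (inferInstance : QuasiCompact fY)
  haveI : CompactSpace P := QuasiCompact.compactSpace_of_compactSpace p₁
  haveI := hsP.1
  haveI := hsY.1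
  let Uo : P.Opens := p₁ ⁻¹ᵁ U
  let A := 𝔸(I; Y)
  let a : A ⟶ Y := 𝔸(I; Y) ↘ Y
  let q : A ⟶ 𝔸(I; Spec (CommRingCat.of k)) := AffineSpace.map I fY
  have sqA : IsPullback q a (𝔸(I; Spec (CommRingCat.of k)) ↘ Spec (CommRingCat.of k)) fY := AffineSpace.isPullback_map fY
  have h1 : IsPullback ((p₁ ∣_ U) ≫ e.hom) (Uo.ι ≫ p₂)
      (V.ι ≫ (𝔸(I; Spec (CommRingCat.of k)) ↘ Spec (CommRingCat.of k))) fY :=
    ((isPullback_morphismRestrict p₁ U).paste_vert sq).of_iso (Iso.refl _) e (Iso.refl _) (Iso.refl _)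
      (by simp) (by simp [Uo]) (by rw [he]; exact Category.comp_id _) (by simp)
  have h2 := (isPullback_morphismRestrict q V).paste_vert sqA
  let φ := h1.isoPullback ≪≫ h2.isoPullback.symm
  let ι' : (Uo : Scheme.{u}) ⟶ A := φ.hom ≫ (q ⁻¹ᵁ V).ι
  have hι' : ι' ≫ a = Uo.ι ≫ p₂ := by
    simp only [ι', φ, Iso.trans_hom, Iso.symm_hom, Category.assoc, IsPullback.isoPullback_inv_snd]
    exact h1.isoPullback_hom_snd
  haveI : IsOpenImmersion ι' := inferInstanceAs (IsOpenImmersion (φ.hom ≫ (q ⁻¹ᵁ V).ι))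
  obtain ⟨δA, hδA⟩ := exists_delta a δY
  have hsA : Cyc.IsSetup A δA := isSetup_of_lft a hsY hδA
  haveI := hsA.1
  have hδU : (fun u => δA (ι' u)) = fun u => δP (Uo.ι u) := by
    refine delta_unique (g := Uo.ι ≫ p₂) (δY := δY) ?_ ?_
    · rw [← hι']
      exact CycLib.deltaCompat_comp (p := a) hδA (CycLib.deltaCompat_preimmersion ι' δA)
    · exact CycLib.deltaCompat_comp (p := p₂) hc₂ (CycLib.deltaCompat_preimmersion Uo.ι δP)
  have hf : AffBundle.LocTriv a n := fun y =>
    ⟨Y, 𝟙 Y, inferInstance, 𝟙 A, ⟨y, rfl⟩, IsPullback.of_horiz_isIso ⟨by simp [a, A, I]⟩⟩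
  have hsha : IsShift a δA δY n := isShift_locTriv a hδA hf
  have hηU : genericPoint X ∈ U := by
    obtain ⟨x, hx⟩ := hU
    exact (genericPoint_specializes x).mem_open U.2 hx
  obtain ⟨u₀, hu₀⟩ : genericPoint P ∈ Set.range Uo.ι := by
    rw [Scheme.Opens.range_ι]
    show p₁ (genericPoint P) ∈ U
    rwa [map_genericPoint p₁]
  have hn : δP (genericPoint P) - δY (genericPoint Y) = n := by
    have hau : a (ι' u₀) = genericPoint Y := by
      rw [← Scheme.Hom.comp_apply, hι', Scheme.Hom.comp_apply, hu₀, map_genericPoint p₂]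
    have hmax : MaxFib a (ι' u₀) := fun w _ hw => by
      obtain ⟨v, rfl⟩ := hw.mem_open ι'.isOpenEmbedding.isOpen_range ⟨u₀, rfl⟩
      have h := (ι'.isOpenEmbedding.isInducing.specializes_iff.1 hw).map Uo.ι.continuous
      rw [hu₀] at h
      rw [Uo.ι.isOpenEmbedding.injective ((h.antisymm (genericPoint_specializes _)).eq.trans hu₀.symm)]
    have := hsha _ hmax
    rw [hau, show δA (ι' u₀) = δP (Uo.ι u₀) from congrFun hδU u₀, hu₀] at this
    omega
  let γA : AlgebraicCycle A ℤ := cycleOfFinite (Function.extend ι' (fun u => γ (Uo.ι u)) 0) <| by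
    refine (((finite_support γ).preimage Uo.ι.isOpenEmbedding.injective.injOn).image ι').subset fun x hx => ?_
    by_cases h : x ∈ Set.range ι'
    · obtain ⟨u, rfl⟩ := h
      rw [Function.mem_support, ι'.isOpenEmbedding.injective.extend_apply] at hx
      exact ⟨u, hx, rfl⟩
    · exact absurd (Function.extend_apply' _ _ _ h) hx
  have hγAι : ∀ u, γA (ι' u) = γ (Uo.ι u) := fun u => by
    show Function.extend ι' (fun u => γ (Uo.ι u)) 0 (ι' u) = _
    exact ι'.isOpenEmbedding.injective.extend_apply _ _ u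
  have hγA : γA ∈ Cyc.Zk A δA (δY (genericPoint Y) - 1 + n) := fun x hx => by
    by_cases h : x ∈ Set.range ι'
    · obtain ⟨u, rfl⟩ := h
      rw [hγAι]
      refine hγ _ fun e' => hx ?_
      rw [show δA (ι' u) = δP (Uo.ι u) from congrFun hδU u, e']
      omega
    · show Function.extend ι' (fun u => γ (Uo.ι u)) 0 x = _
      exact Function.extend_apply' _ _ _ h
  obtain ⟨β, β', hβ, hβ', hr⟩ := AffBundle.exists_ratEquiv_pull a hsA.2.2 hsY.2.2 hδA hf γA hγA
  have hsh₂ : IsShift p₂ δP δY (δP (genericPoint P) - δY (genericPoint Y)) := isShift_generic p₂ hsY hc₂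
  let βP := pullHom hsh₂ hsP.2.2 β
  have hβP : βP ∈ Cyc.Zk P δP (δP (genericPoint P) - 1) := by
    have := Bivar.pullFun_mem_Zk p₂ δP δY (δP (genericPoint P) - δY (genericPoint Y)) _ hβ βP rfl
    rwa [show δY (genericPoint Y) - 1 + (δP (genericPoint P) - δY (genericPoint Y)) = δP (genericPoint P) - 1 by ring] at this
  refine ⟨β, hβ, βP, rfl, ?_⟩
  let δU : ↥Uo → ℤ := fun u => δP (Uo.ι u)
  have hsU : Cyc.IsDimFun (Uo : Scheme.{u}) δU := isDimFun_open Uo hsP.2.2
  haveI := isLocallyNoetherian_of_isOpenImmersion Uo.ι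
  have sh' : IsShift ι' δU δA 0 := fun u _ => by
    show δP (Uo.ι u) = δA (ι' u) + 0
    rw [add_zero, show δA (ι' u) = δP (Uo.ι u) from congrFun hδU u]
  have sho : IsShift Uo.ι δU δP 0 := VBundLib.isShift_openImm Uo.ι δP
  have hval : ∀ (c : A → ℤ) (u : ↥Uo), Cyc.pullFun ι' δU δA 0 c u = c (ι' u) := fun c u => by
    rw [show δU = fun u => δA (ι' u) from hδU.symm, VBundLib.pullFun_openImm]
  have hval' : ∀ (c : P → ℤ) (u : ↥Uo), Cyc.pullFun Uo.ι δU δP 0 c u = c (Uo.ι u) := fun c u => by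
    rw [show δU = fun u => δP (Uo.ι u) from rfl, VBundLib.pullFun_openImm]
  let αU := pullHom sho hsU γ
  let βU := pullHom sho hsU βP
  have hβ'u : ∀ u, β' (ι' u) = βP (Uo.ι u) := fun u => by
    rw [← hval ⇑β' u, ← hval' ⇑βP u, hβ', show ⇑βP = Cyc.pullFun p₂ δP δY _ ⇑β from rfl,
      ← pullFun_comp hsha sh' hsA.2.2 hsU, ← pullFun_comp hsh₂ sho hsP.2.2 hsU, hι', hn]
  have hrU : Cyc.RatEquiv δU (δP (genericPoint P) - 1) αU βU := by
    have h := ratEquivZero_pull sh' hsU hsA.2.2 hr (αU - βU) (funext fun u => by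
      show Cyc.pullFun Uo.ι δU δP 0 ⇑γ u - Cyc.pullFun Uo.ι δU δP 0 ⇑βP u = _
      rw [hval, hval', hval']
      show _ = γA (ι' u) - β' (ι' u)
      rw [hγAι, hβ'u])
    rwa [add_zero, show δY (genericPoint Y) - 1 + (n : ℤ) = δP (genericPoint P) - 1 by omega] at h
  obtain ⟨γ₀, h₀, h₀U, hrel⟩ := S1863.result P δP hsP Uo _ γ βP hγ hβP αU βU (hval' _) (hval' _) hrU
  exact ⟨γ₀, h₀, fun z hz => h₀U z hz, hrel⟩

include sq hc₁ hc₂ hsX hsY hsP he hU in
/-- Cycles of codimension one on a product with a rational variety come from the factors. -/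
theorem exists_pull_add (γ : AlgebraicCycle P ℤ) (hγ : γ ∈ Cyc.Zk P δP (δP (genericPoint P) - 1)) :
    ∃ α ∈ Cyc.Zk X δX (δX (genericPoint X) - 1), ∃ β ∈ Cyc.Zk Y δY (δY (genericPoint Y) - 1),
      ∃ γ' : AlgebraicCycle P ℤ,
        (∀ z, γ' z = Cyc.pullFun p₁ δP δX (δP (genericPoint P) - δX (genericPoint X)) α z +
          Cyc.pullFun p₂ δP δY (δP (genericPoint P) - δY (genericPoint Y)) β z) ∧
        Cyc.RatEquiv δP (δP (genericPoint P) - 1) γ γ' := by
  classical
  obtain ⟨β, hβ, βP, hβP, γ₀, h₀, h₀U, hrel⟩ := exists_second sq hc₂ hsY hsP e hU he γ hγ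
  haveI := flat_fst sq
  haveI := lft_fst sq
  haveI : GeometricallyIntegral p₁ := MorphismProperty.of_isPullback sq.flip (inferInstance : GeometricallyIntegral fY)
  haveI : CompactSpace X := QuasiCompact.compactSpace_of_compactSpace fX
  haveI : QuasiCompact p₁ := MorphismProperty.of_isPullback sq.flip (inferInstance : QuasiCompact fY)
  haveI : CompactSpace P := QuasiCompact.compactSpace_of_compactSpace p₁
  haveI := hsP.1
  haveI := hsX.1
  set r := δP (genericPoint P) - δX (genericPoint X) with hr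
  have hsh₁ : IsShift p₁ δP δX r := isShift_generic p₁ hsX hc₁
  have key : ∀ z, γ₀ z ≠ 0 → δX (p₁ z) = δX (genericPoint X) - 1 ∧ z = fibGen p₁ (p₁ z) := fun z hz => by
    have hd : δP z = δP (genericPoint P) - 1 := by_contra fun h => hz (h₀ z h)
    have hx : p₁ z ≠ genericPoint X := fun h => hz (h₀U z (by
      obtain ⟨x, hx⟩ := hU
      rw [h]
      exact (genericPoint_specializes x).mem_open U.2 hx))
    have h1 := (hsX.2.2 _ _ (genericPoint_specializes (p₁ z)) (Ne.symm hx)).1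
    have h2 := hsh₁.le hsP.2.2 z
    exact ⟨by omega, eq_fibGen p₁ (hsh₁.maxFib_of_eq hsP.2.2 (by omega))⟩
  let α : AlgebraicCycle X ℤ := cycleOfFinite
    (fun x => if δX x = δX (genericPoint X) - 1 then γ₀ (fibGen p₁ x) else 0) <| by
      refine ((finite_support γ₀).image p₁).subset fun x hx => ?_
      rw [Function.mem_support] at hx
      split_ifs at hx with h
      · exact ⟨_, hx, apply_fibGen p₁ x⟩
      · exact absurd rfl hx
  have hα : α ∈ Cyc.Zk X δX (δX (genericPoint X) - 1) := fun x hx => if_neg hx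
  have hα₀ : γ₀ = pullHom hsh₁ hsP.2.2 α := by
    ext z
    show γ₀ z = Cyc.pullFun p₁ δP δX r ⇑α z
    rw [pullFun_apply]
    split_ifs with h
    · have hmax := hsh₁.maxFib_of_eq hsP.2.2 h
      rw [length_fibIdeal_eq_one p₁ hmax]
      show _ = (if δX (p₁ z) = δX (genericPoint X) - 1 then γ₀ (fibGen p₁ (p₁ z)) else 0) * _
      rw [← eq_fibGen p₁ hmax]
      split_ifs with h'
      · simp
      · rw [zero_mul]
        by_contra hz
        exact h' (key z hz).1
    · by_contra hz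
      obtain ⟨h1, -⟩ := key z hz
      have hd : δP z = δP (genericPoint P) - 1 := by_contra fun h => hz (h₀ z h)
      exact h (by omega)
  refine ⟨α, hα, β, hβ, pullHom hsh₁ hsP.2.2 α + βP, fun z => ?_, ?_⟩
  · show Cyc.pullFun p₁ δP δX r ⇑α z + βP z = _
    rw [hβP]
  · rwa [← hα₀, add_comm]

end Groth.Agent.ClProdLib
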